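import Cfsg.Agent.FGS75.CCKer.Sys
import Cfsg.Agent.S1477
import Cfsg.Agent.S0215
import Cfsg.Agent.Lib.MinimalNormal
import Cfsg.Agent.Signalizer.Functor

/-!
In a non-solvable group with nilpotent centralisers the centralisers of involutions are 2-groups.
-/

set_option autoImplicit false

namespace Cfsg.Agent.EPPO


open FGS75.CCKer (Dat nS cz)
open FGS75.TICent (mem_cent conj_fix el_mem_sylow comm_of_el)

variable {G : Type*} [Group G] [Finite G]

theorem exists_second_of_nilpotent {S : Sylow 2 G} (hns : ¬ Group.IsSolvable G) {u : G}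
    (hu : orderOf u = 2) (huS : u ∈ (S : Subgroup G))
    (hnil : Group.IsNilpotent (Subgroup.centralizer ({u} : Set G))) :
    ∃ t ∈ (S : Subgroup G), orderOf t = 2 ∧ t ≠ u := by
  by_contra hc
  push Not at hc
  obtain ⟨N, hNn, hNodd, hN⟩ := Cfsg.Agent.S0215.result S u hu huS fun g hg => hc _ hg (by
    rw [← hu]; exact orderOf_injective (MulAut.conj g).toMonoidHom (MulAut.conj g).injective u)
  have huu : u * u = 1 := by rw [← pow_two, ← hu, pow_orderOf_eq_one]
  have huinv : u⁻¹ = u := inv_eq_of_mul_eq_one_right huu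
  have hle : N ⊔ Subgroup.centralizer ({u} : Set G) = ⊤ := by
    rw [eq_top_iff]
    intro g _
    set d := u * g * u⁻¹ * g⁻¹ with hd
    have hdN : d ∈ N := hN g
    have hdu : u * d * u⁻¹ = d⁻¹ := by
      simp only [hd, huinv, mul_inv_rev, inv_inv]
      simp [mul_assoc, huu, reassoc huu]
    obtain ⟨k, hk⟩ := hNodd.of_dvd_nat (Subgroup.orderOf_dvd_natCard N hdN)
    set m := d ^ (k + 1) with hm
    have hm2 : m * m = d := by
      rw [hm, ← pow_add, show k + 1 + (k + 1) = (2 * k + 1) + 1 by omega, pow_succ, ← hk,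
        pow_orderOf_eq_one, one_mul]
    have hum : u * m * u⁻¹ = m⁻¹ := by rw [hm, ← conj_pow, hdu, inv_pow]
    have hgu : g * u * g⁻¹ = m⁻¹ * u * m := by
      have h1 : g * u * g⁻¹ = u * d := by rw [hd]; simp [mul_assoc, huinv, reassoc huu]
      rw [h1, ← hm2, ← mul_assoc]
      congr 1
      calc u * m = u * m * u⁻¹ * u := by group
        _ = m⁻¹ * u := by rw [hum]
    have hmem : m * g ∈ Subgroup.centralizer ({u} : Set G) := mem_cent.mpr (by
      calc m * g * u = m * (g * u * g⁻¹) * g := by group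
        _ = u * (m * g) := by rw [hgu]; group)
    rw [show g = m⁻¹ * (m * g) by group]
    exact Subgroup.mul_mem_sup (N.inv_mem (N.pow_mem hdN _)) hmem
  haveI := hnil
  have hs := Signalizer.isSolvable_sup (X := N) (Y := Subgroup.centralizer ({u} : Set G))
    (fun g _ => by rw [Subgroup.normalizer_eq_top_iff.mpr hNn]; exact Subgroup.mem_top g)
    (Cfsg.Agent.S0205.result hNodd) inferInstance
  rw [hle] at hs
  haveI := hs
  exact hns (Group.isSolvable_of_surjective
    (f := (Subgroup.topEquiv (G := G)).toMonoidHom) Subgroup.topEquiv.surjective)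
where
  reassoc {x : G} (h : x * x = 1) (y : G) : x * (x * y) = y := by rw [← mul_assoc, h, one_mul]

/-- A non-solvable CN-group is a CIT-group. -/
theorem isCIT_of_isCN (hCN : Cfsg.IsCNGroup G) (hns : ¬ Group.IsSolvable G) (t : G)
    (ht : orderOf t = 2) : IsPGroup 2 (Subgroup.centralizer ({t} : Set G)) := by
  classical
  haveI : Fact (Nat.Prime 2) := ⟨Nat.prime_two⟩
  have ht1 : t ≠ 1 := fun e => by simp [e] at ht
  by_contra hnp
  obtain ⟨H, hle, hH, hmax'⟩ := Finite.exists_le_maximal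
    (p := fun L : Subgroup G => Group.IsNilpotent L) (hCN t ht1)
  have hmax : ∀ L : Subgroup G, Group.IsNilpotent L → H ≤ L → L = H := fun L hL hHL =>
    le_antisymm (hmax' hL hHL) hHL
  obtain ⟨hcop, hti', hcc'⟩ := Cfsg.Agent.S1477.result hCN H hH hmax
  have htH : t ∈ H := hle (mem_cent.mpr rfl)
  have h2H : 2 ∣ Nat.card H := ht ▸ Subgroup.orderOf_dvd_natCard H htH
  have hnpp : ¬ IsPrimePow (Nat.card H) := by
    intro hp
    obtain ⟨p, k, hp, -, hk⟩ := (isPrimePow_nat_iff _).mp hp
    obtain rfl : 2 = p := (Nat.prime_dvd_prime_iff_eq Nat.prime_two hp).mp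
      (Nat.prime_two.dvd_of_dvd_pow (hk ▸ h2H))
    exact hnp ((IsPGroup.of_card hk.symm).to_le hle)
  have hne1 : Nat.card H ≠ 1 := fun e => by rw [e] at h2H; norm_num at h2H
  have hti := hti' hnpp hne1
  have hcc := hcc' hti
  have hne : H ≠ ⊥ := fun e => hne1 (Subgroup.card_eq_one.mpr e)
  have hnorm : ∀ g x : G, x ∈ H → x ≠ 1 → g * x * g⁻¹ ∈ H →
      g ∈ Subgroup.normalizer (H : Set G) := by
    intro g x hx hx1 hgx
    by_contra hg
    have hm : H.map (MulAut.conj g).toMonoidHom ≠ H := fun e => hg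
      (FGS75.SelfNorm.mem_normalizer_of_conj fun y hy => e.le ⟨y, hy, rfl⟩)
    have h1 : g * x * g⁻¹ ∈ H ⊓ H.map (MulAut.conj g).toMonoidHom := ⟨hgx, x, hx, rfl⟩
    rw [hti g hm, Subgroup.mem_bot] at h1
    exact hx1 (conj_eq_one_iff.mp h1)
  haveI : Group.IsNilpotent H := hH
  -- a Sylow 2-subgroup inside `H`
  obtain ⟨T⟩ : Nonempty (Sylow 2 H) := inferInstance
  have hodd : Odd H.index := Nat.odd_iff.mpr (Nat.two_dvd_ne_zero.mp fun h => Nat.prime_two.ne_one
    (Nat.eq_one_of_dvd_coprimes hcop h2H h))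
  set S₀ := (T : Subgroup H).map H.subtype with hS₀
  have hS₀p : IsPGroup 2 S₀ := T.isPGroup'.map _
  have hS₀i : ¬ 2 ∣ S₀.index := by
    rw [← Subgroup.relIndex_mul_index (show S₀ ≤ H from Subgroup.map_subtype_le _)]
    intro h
    rcases Nat.prime_two.dvd_mul.mp h with h | h
    · refine T.not_dvd_index ?_
      have e : S₀.relIndex H = (T : Subgroup H).index := by
        rw [Subgroup.relIndex, hS₀, Subgroup.subgroupOf,
          Subgroup.comap_map_eq_self_of_injective H.subtype_injective]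
      rwa [e] at h
    · exact Nat.two_dvd_ne_zero.mpr (Nat.odd_iff.mp hodd) h
  set S : Sylow 2 G := hS₀p.toSylow hS₀i with hS
  have hSH : (S : Subgroup G) ≤ H := Subgroup.map_subtype_le _
  obtain ⟨z, hzS, hz, hzc⟩ : ∃ z : G, z ∈ (S : Subgroup G) ∧ orderOf z = 2 ∧
      ∀ s ∈ (S : Subgroup G), s * z = z * s := by
    have h2 : 2 ∣ Nat.card (S : Subgroup G) :=
      S.dvd_card_of_dvd_card (ht ▸ orderOf_dvd_natCard t)
    haveI : Nontrivial (S : Subgroup G) :=
      Finite.one_lt_card_iff_nontrivial.mp (Nat.le_of_dvd Nat.card_pos h2)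
    haveI := S.isPGroup'.center_nontrivial
    have h2c : 2 ∣ Nat.card (Subgroup.center (S : Subgroup G)) := by
      obtain ⟨k, hk⟩ := IsPGroup.iff_card.mp
        (S.isPGroup'.to_subgroup (Subgroup.center (S : Subgroup G)))
      rcases Nat.eq_zero_or_pos k with rfl | hk0
      · have := Finite.one_lt_card (α := Subgroup.center (S : Subgroup G))
        rw [hk] at this
        omega
      · exact hk ▸ dvd_pow_self 2 hk0.ne'
    obtain ⟨⟨⟨z, hzS⟩, hzc⟩, hz⟩ := exists_prime_orderOf_dvd_card' 2 h2c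
    rw [Subgroup.orderOf_mk, Subgroup.orderOf_mk] at hz
    exact ⟨z, hzS, hz, fun s hs => congrArg Subtype.val (Subgroup.mem_center_iff.mp hzc ⟨s, hs⟩)⟩
  have hz1 : z ≠ 1 := fun e => by simp [e] at hz
  have hz2 : z * z = 1 := by rw [← pow_two, ← hz, pow_orderOf_eq_one]
  -- no solvable normal subgroups
  have hrad : ∀ N : Subgroup G, N.Normal → Group.IsSolvable N → N = ⊥ := by
    intro N hN hNs
    by_contra hN1
    obtain ⟨P, hPn, hP1, hPN, hPmin⟩ := MinNormal.exists_minimal_normal_le N hN1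
    haveI := hPn
    haveI : Group.IsSolvable P := by
      haveI := hNs
      exact Group.isSolvable_of_isSolvable_injective (f := Subgroup.inclusion hPN)
        (Subgroup.inclusion_injective hPN)
    obtain ⟨hPc, p, hp, hPexp, hPp⟩ := MinNormal.elementary_abelian P hP1 hPmin
    obtain ⟨v, hv, hv1⟩ := P.bot_or_exists_ne_one.resolve_left hP1
    have hPH : ∀ x ∈ P, x ∈ H → x = 1 := by
      intro x hx hxH
      by_contra hx1
      have hHn : H.Normal := by
        refine Subgroup.normalizer_eq_top_iff.mp (eq_top_iff.mpr fun g _ => ?_)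
        refine hnorm g x hxH hx1 (hcc x hxH hx1 (mem_cent.mpr ?_))
        exact congrArg Subtype.val
          (hPc.is_comm.comm ⟨_, hPn.conj_mem x hx g⟩ ⟨x, hx⟩)
      haveI := hHn
      haveI : Group.IsSolvable (G ⧸ H) :=
        Cfsg.Agent.S0205.result (Subgroup.index_eq_card H ▸ hodd)
      exact hns (Group.isSolvable_of_ker_le_range H.subtype (QuotientGroup.mk' H)
        (by rw [QuotientGroup.ker_mk', Subgroup.range_subtype]))
    obtain ⟨u, huS, hu, huz⟩ := exists_second_of_nilpotent hns hz hzS (hCN z hz1)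
    have hu1 : u ≠ 1 := fun e => by simp [e] at hu
    have hu2 : u * u = 1 := by rw [← pow_two, ← hu, pow_orderOf_eq_one]
    have hinv : ∀ w ∈ H, w * w = 1 → w ≠ 1 → ∀ x ∈ P, w * x * w⁻¹ = x⁻¹ := fun w hw hww hw1 =>
      FGS75.SelfNorm.inverts_of_fpf hww (fun x hx => hPn.conj_mem x hx w)
        (fun x hx e => hPH x hx (hcc w hw hw1 (mem_cent.mpr e.symm)))
    have huzH : u * z ∈ H := mul_mem (hSH huS) (hSH hzS)
    have huz1 : u * z ≠ 1 := fun e =>
      huz ((eq_inv_of_mul_eq_one_left e).trans (inv_eq_of_mul_eq_one_right hz2))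
    refine hv1 (hPH v hv (hcc _ huzH huz1 (mem_cent.mpr ?_)))
    have h1 := hinv z (hSH hzS) hz2 hz1 v hv
    have h2 := hinv u (hSH huS) hu2 hu1 v⁻¹ (inv_mem hv)
    rw [inv_inv] at h2
    have h3 : (u * z) * v * (u * z)⁻¹ = v := by
      rw [show (u * z) * v * (u * z)⁻¹ = u * (z * v * z⁻¹) * u⁻¹ by group, h1, h2]
    exact (mul_inv_eq_iff_eq_mul.mp h3).symm
  -- the centraliser of `z` is `H`
  have hcz : cz z = H := by
    refine le_antisymm (hcc z (hSH hzS) hz1) ?_
    refine (FGS75.FitRank.le_closure_el H).trans ((Subgroup.closure_le _).mpr ?_)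
    rintro a ⟨ha, s, hs, has⟩
    refine mem_cent.mpr ?_
    by_cases hs2 : s = 2
    · subst hs2
      exact hzc a (el_mem_sylow S hH (hSH.trans Subgroup.le_normalizer) ha has)
    · exact comm_of_el hH hs Nat.prime_two hs2 ha (hSH hzS) has
        ⟨1, by rw [pow_one, pow_two, hz2]⟩
  have hnS : nS S = Subgroup.normalizer (H : Set G) := by
    refine le_antisymm (fun g hg => hnorm g z (hSH hzS) hz1
      (hSH ((Subgroup.mem_normalizer_iff.mp hg z).mp hzS))) fun g hg => ?_
    refine FGS75.SelfNorm.mem_normalizer_of_conj fun s hs => ?_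
    refine el_mem_sylow S hH (hSH.trans Subgroup.le_normalizer)
      ((Subgroup.mem_normalizer_iff.mp hg s).mp (hSH hs)) (FGS75.FitRank.El.conj g ?_)
    obtain ⟨i, hi⟩ := S.isPGroup' ⟨s, hs⟩
    exact ⟨i, congrArg Subtype.val hi⟩
  have hsol : Group.IsSolvable (nS S) := by
    rw [hnS]
    haveI : (H.subgroupOf (Subgroup.normalizer (H : Set G))).Normal :=
      Subgroup.normal_in_normalizer
    haveI : Group.IsSolvable
        (Subgroup.normalizer (H : Set G) ⧸ H.subgroupOf (Subgroup.normalizer (H : Set G))) :=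
      Cfsg.Agent.S0205.result (by
        rw [← Subgroup.index_eq_card]
        exact hodd.of_dvd_nat ⟨_, (Subgroup.relIndex_mul_index Subgroup.le_normalizer).symm⟩)
    haveI : Group.IsSolvable (H.subgroupOf (Subgroup.normalizer (H : Set G))) :=
      Group.isSolvable_of_isSolvable_injective
        (f := (Subgroup.subgroupOfEquivOfLe (Subgroup.le_normalizer (H := H))).toMonoidHom)
        (MulEquiv.injective _)
    exact Group.isSolvable_of_ker_le_range
      (H.subgroupOf (Subgroup.normalizer (H : Set G))).subtype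
      (QuotientGroup.mk' (H.subgroupOf (Subgroup.normalizer (H : Set G))))
      (by rw [QuotientGroup.ker_mk', Subgroup.range_subtype])
  have hdat : Dat S z := by
    refine ⟨hns, hrad, hzS, hz1, hz2, hzc, hsol, ?_, ?_, ?_, ?_, ?_⟩
    · rw [hcz]; exact hH
    · rw [hcz, hnS]; exact Subgroup.le_normalizer
    · intro m hm c hc
      rw [hcz] at hc ⊢
      rw [hnS] at hm
      exact (Subgroup.mem_normalizer_iff.mp hm c).mp hc
    · intro x hx hx1
      rw [hcz] at hx ⊢
      exact hcc x hx hx1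
    · intro g x hx hx1 hgx
      rw [hcz] at hx hgx
      rw [hnS]
      exact hnorm g x hx hx1 hgx
  exact hnp ((hcz ▸ hdat.cz_isPGroup).to_le hle)

end Cfsg.Agent.EPPO
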