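import Cfsg.Agent.EPPO.Cases
import Cfsg.Agent.Invol.RankOneQuot
import Cfsg.Agent.Invol.NeedsOdd
import Cfsg.Agent.SpecFive.Basic
import Cfsg.Agent.S0205
import Cfsg.Prelude.Def_Sz

/-!
Consequences of the classification of the simple groups with all element orders prime powers.
-/

set_option autoImplicit false
open Cfsg

universe u

namespace Cfsg.Agent.EPPO

/-- The classification of the simple groups with all element orders prime powers. -/
def Classified : Prop :=
  ∀ (K : Type u) [Group K] [Finite K], IsSimpleGroup K → ¬ IsMulCommutative K →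
    (∀ g : K, g ≠ 1 → IsPrimePow (orderOf g)) →
    Nonempty (K ≃* alternatingGroup (Fin 6)) ∨
    (∃ (F : Type) (_ : Field F) (_ : Fintype F), Fintype.card F ∈ ({4, 7, 8, 17} : Finset ℕ) ∧
      Nonempty (K ≃* Matrix.ProjectiveSpecialLinearGroup (Fin 2) F)) ∨
    (∃ (F : Type) (_ : Field F) (_ : Fintype F), Fintype.card F = 4 ∧
      Nonempty (K ≃* Matrix.ProjectiveSpecialLinearGroup (Fin 3) F)) ∨
    (∃ (F : Type) (_ : Field F) (_ : Fintype F),
      (Fintype.card F = 8 ∧ Nonempty (K ≃* ↥(Cfsg.Lie.Sz F 4))) ∨ (Fintype.card F = 32 ∧ Nonempty (K ≃* ↥(Cfsg.Lie.Sz F 8))))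


/-- Let G be a finite group in which every non-identity element has prime-power order (its prime graph has no edges). Then the order of G has at most four distinct prime divisors; and if it has exactly four, then either G is isomorphic to PSL(3,4), or G has a normal 2-subgroup N with G/N isomorphic to the Suzuki group over the field with 8 or with 32 elements. -/
theorem four_primes {G : Type u} [Group G] [Finite G] (hL : Classified.{u}) (h : ∀ g : G, g ≠ 1 → IsPrimePow (orderOf g)) :
    (Nat.card G).primeFactors.card ≤ 4 ∧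
    ((Nat.card G).primeFactors.card = 4 →
      (∃ (F : Type) (_ : Field F) (_ : Fintype F), Fintype.card F = 4 ∧
        Nonempty (G ≃* Matrix.ProjectiveSpecialLinearGroup (Fin 3) F)) ∨
      (∃ (N : Subgroup G) (_ : N.Normal), IsPGroup 2 ↥N ∧
        ∃ (F : Type) (_ : Field F) (_ : Fintype F),
          (Fintype.card F = 8 ∧ Nonempty (G ⧸ N ≃* ↥(Cfsg.Lie.Sz F 4))) ∨
          (Fintype.card F = 32 ∧ Nonempty (G ⧸ N ≃* ↥(Cfsg.Lie.Sz F 8))))) := by
  classical
  by_cases hs : Group.IsSolvable G
  · haveI := hs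
    have := Cfsg.Agent.S1475.result (G := G) fun g => (em (g = 1)).elim Or.inr fun hg => Or.inl (h g hg)
    exact ⟨by omega, fun h4 => by omega⟩
  obtain ⟨R, hRn, hRs, hRmax⟩ := EPPO.exists_radical G
  haveI := hRn
  obtain ⟨-, ⟨M, hMn, hMs, hMa, -⟩, -⟩ := Cfsg.Agent.S3992.result hs h R hRs hRmax
  haveI := hMn
  haveI := hMs
  have three : ∀ L : Finset ℕ, L.card = 3 → (Nat.card G).primeFactors ⊆ L →
      (Nat.card G).primeFactors.card ≤ 4 ∧ ((Nat.card G).primeFactors.card = 4 → False) := by
    intro L hL hsub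
    have := Finset.card_le_card hsub
    exact ⟨by omega, fun h4 => by omega⟩
  have wrap : ∀ {P : Prop} {n : ℕ}, (n ≤ 4 ∧ (n = 4 → False)) → n ≤ 4 ∧ (n = 4 → P) :=
    fun ⟨a, b⟩ => ⟨a, fun h4 => (b h4).elim⟩
  have hpM : EPPO.PP M := (EPPO.PP.quotient h R).subgroup M
  rcases hL M hMs hMa hpM with ⟨⟨e⟩⟩ | ⟨F, _, _, hF, ⟨e⟩⟩ | ⟨F, _, _, hF, ⟨e⟩⟩ |
    ⟨F, _, _, ⟨hF, ⟨e⟩⟩ | ⟨hF, ⟨e⟩⟩⟩
  · have hm : Nat.card M = 360 := (Nat.card_congr e.toEquiv).trans EPPO.card_alt_six
    haveI : Fact (Nat.Prime 5) := ⟨by norm_num⟩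
    exact wrap (three {2, 3, 5} rfl (EPPO.primes_of_pin h R hRs M hm _
      (EPPO.primeFactors_subset (k := 3) (by decide) (by norm_num))
      5 2 (by norm_num) (by norm_num) Nat.prime_two (by decide) (by decide) (by decide)))
  · have hm := (Nat.card_congr e.toEquiv).trans rfl
    have hc := EPPO.card_psl_two (F := F) rfl
    simp only [Finset.mem_insert, Finset.mem_singleton] at hF
    rw [← hm] at hc
    rcases hF with hF | hF | hF | hF <;> rw [hF] at hc <;> norm_num at hc
    · have hm4 : Nat.card M = 60 := by omega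
      haveI : Fact (Nat.Prime 5) := ⟨by norm_num⟩
      exact wrap (three {2, 3, 5} rfl (EPPO.primes_of_pin h R hRs M hm4 _
        (EPPO.primeFactors_subset (k := 2) (by decide) (by norm_num))
        5 2 (by norm_num) (by norm_num) Nat.prime_two (by decide) (by decide) (by decide)))
    · have hm7 : Nat.card M = 168 := by omega
      haveI : Fact (Nat.Prime 7) := ⟨by norm_num⟩
      exact wrap (three {2, 3, 7} rfl (EPPO.primes_of_pin h R hRs M hm7 _
        (EPPO.primeFactors_subset (k := 3) (by decide) (by norm_num))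
        7 3 (by norm_num) (by norm_num) Nat.prime_three (by decide) (by decide) (by decide)))
    · have hm8 : Nat.card M = 504 := by omega
      haveI : Fact (Nat.Prime 7) := ⟨by norm_num⟩
      exact wrap (three {2, 3, 7} rfl (EPPO.primes_of_pin h R hRs M hm8 _
        (EPPO.primeFactors_subset (k := 3) (by decide) (by norm_num))
        7 2 (by norm_num) (by norm_num) Nat.prime_two (by decide) (by decide) (by decide)))
    · have hm17 : Nat.card M = 2448 := by omega
      haveI : Fact (Nat.Prime 17) := ⟨by norm_num⟩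
      exact wrap (three {2, 3, 17} rfl (EPPO.primes_of_pin h R hRs M hm17 _
        (EPPO.primeFactors_subset (k := 4) (by decide) (by norm_num))
        17 2 (by norm_num) (by norm_num) Nat.prime_two (by decide) (by decide) (by decide)))
  · have hm : Nat.card M = 20160 := (Nat.card_congr e.toEquiv).trans (EPPO.card_psl_three_four hF)
    haveI : Fact (Nat.Prime 5) := ⟨by norm_num⟩
    haveI : Fact (Nat.Prime 7) := ⟨by norm_num⟩
    obtain ⟨hR, hM⟩ := EPPO.trivial_of_pins h R hRs M hm 5 2 7 3 (by norm_num) (by norm_num)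
      (by norm_num) (by norm_num) Nat.prime_two Nat.prime_three (by decide) (by decide) (by decide)
    refine ⟨?_, fun _ => Or.inl ⟨F, inferInstance, inferInstance, hF,
      ⟨(EPPO.botEquiv hR).trans ((EPPO.topEquiv hM).trans e)⟩⟩⟩
    rw [EPPO.card_split R M, Subgroup.index_eq_one.mpr hM, Subgroup.card_eq_one.mpr hR, mul_one, mul_one, hm]
    exact (Finset.card_le_card (EPPO.primeFactors_subset (L := {2, 3, 5, 7}) (k := 6) (by decide)
      (by norm_num))).trans (le_of_eq rfl)
  · have hm : Nat.card M = 29120 := (Nat.card_congr e.toEquiv).trans (EPPO.card_sz_eight hF)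
    haveI : Fact (Nat.Prime 13) := ⟨by norm_num⟩
    haveI : Fact (Nat.Prime 7) := ⟨by norm_num⟩
    obtain ⟨hR, hM⟩ := EPPO.two_of_pins h R hRs M hm 13 4 7 (by norm_num) (by norm_num)
      (by norm_num) (by norm_num) (by norm_num) (by norm_num) (by decide +kernel) (by norm_num) (by decide)
      (by norm_num)
    refine ⟨?_, fun _ => Or.inr ⟨R, hRn, hR, F, inferInstance, inferInstance,
      Or.inl ⟨hF, ⟨(EPPO.topEquiv hM).trans e⟩⟩⟩⟩
    exact (Finset.card_le_card (EPPO.primes_of_pin h R hRs M hm {2, 5, 7, 13}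
      (EPPO.primeFactors_subset (k := 6) (by decide) (by norm_num))
      13 2 (by norm_num) (by norm_num) Nat.prime_two (by decide +kernel) (by decide) (by decide))).trans (le_of_eq rfl)
  · have hm : Nat.card M = 32537600 := (Nat.card_congr e.toEquiv).trans (EPPO.card_sz_thirty_two hF)
    haveI : Fact (Nat.Prime 31) := ⟨by norm_num⟩
    haveI : Fact (Nat.Prime 41) := ⟨by norm_num⟩
    obtain ⟨hR, hM⟩ := EPPO.two_of_pins h R hRs M hm 31 2 41 (by norm_num) (by norm_num)
      (by norm_num) (by norm_num) (by norm_num) (by norm_num) (by decide +kernel) (by norm_num) (by decide +kernel)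
      (by norm_num)
    refine ⟨?_, fun _ => Or.inr ⟨R, hRn, hR, F, inferInstance, inferInstance,
      Or.inr ⟨hF, ⟨(EPPO.topEquiv hM).trans e⟩⟩⟩⟩
    exact (Finset.card_le_card (EPPO.primes_of_pin h R hRs M hm {2, 5, 31, 41}
      (EPPO.primeFactors_subset (k := 10) (by decide) (by norm_num))
      31 2 (by norm_num) (by norm_num) Nat.prime_two (by decide +kernel) (by decide) (by decide))).trans (le_of_eq rfl)



theorem charP_of_card {K : Type} [Field K] [Fintype K] {p n : ℕ} [hp : Fact p.Prime]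
    (h : Fintype.card K = p ^ n) : CharP K p := by
  obtain ⟨q, hq⟩ := CharP.exists K
  haveI := hq
  obtain ⟨⟨m, hm⟩, hqp, hc⟩ := FiniteField.card K q
  have : q = p := (Nat.prime_dvd_prime_iff_eq hqp hp.out).mp
    (hqp.dvd_of_dvd_pow (n := n) (by rw [← h, hc]; exact dvd_pow_self q hm.ne'))
  exact this ▸ hq

/-- The case of `PSL(2,7)`. -/
theorem psl_seven {G : Type*} [Group G] [Finite G] (h : EPPO.PP G) (hs : ¬ Group.IsSolvable G)
    (R : Subgroup G) [R.Normal] (hRs : Group.IsSolvable R) (M : Subgroup (G ⧸ R)) [M.Normal]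
    [IsSimpleGroup M] (hMa : ¬ IsMulCommutative M)
    {K : Type} [Field K] [Fintype K] (hK : Fintype.card K = 7)
    (e : M ≃* Matrix.ProjectiveSpecialLinearGroup (Fin 2) K)
    {F : Type*} [Field F] [Fintype F] (hF : Fintype.card F = 7) (hm : Nat.card M = 168) :
    Nonempty (G ≃* Matrix.ProjectiveSpecialLinearGroup (Fin 2) F) := by
  haveI : Fact (Nat.Prime 7) := ⟨by norm_num⟩
  haveI : Fact (Nat.Prime 3) := ⟨Nat.prime_three⟩
  haveI : Fact (Nat.Prime 2) := ⟨Nat.prime_two⟩
  obtain ⟨e₇, h₇⟩ := EPPO.exists_pin h R hRs M 7 (by rw [hm]; norm_num) (by rw [hm]; norm_num)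
  obtain ⟨e₃, h₃⟩ := EPPO.exists_pin h R hRs M 3 (by rw [hm]; norm_num) (by rw [hm]; norm_num)
  rw [hm] at h₇ h₃
  have he₇ : e₇ = 3 := by
    have := EPPO.e_cases h₇ (by norm_num)
    revert this; revert e₇
    intro e₇ _ this
    have h' : e₇ ∈ ({3} : Finset ℕ) := by
      have hset : (Finset.range 7).filter (fun x => x ∣ 7 - 1 ∧ 7 * x ∣ 168 ∧ 168 / (7 * x) % 7 = 1) = {3} := by
        decide
      rw [hset] at this; exact this
    simpa using h'
  have he₃ : 2 ∣ e₃ := by
    have hset : ∀ x ∈ (Finset.range 3).filter (fun x => x ∣ 3 - 1 ∧ 3 * x ∣ 168 ∧ 168 / (3 * x) % 3 = 1),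
        2 ∣ x := by decide
    exact hset e₃ (EPPO.e_cases h₃ (by norm_num))
  subst he₇
  have hp3 : ∀ {q : ℕ}, (q = 7 ∨ q = 3) → (q = 3 ∨ q = 2) → q = 3 := by
    rintro q (rfl | rfl) (h' | h') <;> first | rfl | norm_num at h'
  have hi : M = ⊤ := by
    rw [← Subgroup.index_eq_one]
    have hi3 : ∀ q : ℕ, q.Prime → q ∣ M.index → q = 3 := fun q hq hd =>
      hp3 (h₇.index_prime 3 q Nat.prime_three dvd_rfl hq hd)
        (h₃.index_prime 2 q Nat.prime_two he₃ hq hd)
    have h1 := h₇.index_dvd fun hd => by have := hi3 7 Fact.out hd; norm_num at this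
    refine EPPO.eq_one_of_no_prime fun q hq hd => ?_
    obtain rfl := hi3 q hq hd
    have : 9 ∣ 6 := (mul_dvd_mul_right hd 3).trans h1
    norm_num at this
  have hR3 : ∀ q : ℕ, q.Prime → q ∣ Nat.card R → q = 3 := fun q hq hd =>
    hp3 (h₇.radical_prime 3 q Nat.prime_three dvd_rfl hq hd) (h₃.radical_prime 2 q Nat.prime_two he₃ hq hd)
  have hR : R = ⊥ := by
    by_contra hR
    have hR2 : ¬ 2 ∣ Nat.card R := fun hd => by have := hR3 2 Nat.prime_two hd; norm_num at this
    have hodd : Invol.OddSolvable := fun H _ _ ho => Cfsg.Agent.S0205.result ho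
    obtain ⟨E, hE⟩ := Invol.four_group_of_simple (G := M) (fun hc => hMa IsCyclic.commutative) hodd
    haveI := hE
    obtain ⟨a, ha, b, hb, hab⟩ : ∃ a : E, a ≠ 1 ∧ ∃ b : E, b ≠ 1 ∧ b ≠ a := by
      haveI : Nontrivial E := Finite.one_lt_card_iff_nontrivial.mp (by rw [IsKleinFour.card_four]; norm_num)
      obtain ⟨a, ha⟩ := exists_ne (1 : E)
      by_contra hc
      push Not at hc
      have : Nat.card E ≤ 2 := by
        rw [← Set.ncard_univ]
        refine (Set.ncard_le_ncard (t := ({1, a} : Set E)) (fun x _ => ?_) (Set.toFinite _)).trans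
          ((Set.ncard_insert_le _ _).trans (by rw [Set.ncard_singleton]))
        by_cases hx : x = 1
        · exact Or.inl hx
        · exact Or.inr (hc a ha x hx)
      rw [IsKleinFour.card_four] at this
      omega
    have ho : ∀ x : E, x ≠ 1 → orderOf ((x : M) : G ⧸ R) = 2 := fun x hx => by
      rw [Subgroup.orderOf_coe, Subgroup.orderOf_coe]
      exact orderOf_eq_prime (Monoid.exponent_dvd_iff_forall_pow_eq_one.mp
        (dvd_of_eq IsKleinFour.exponent_two) x) hx
    have hinvE : ∀ z : E, z⁻¹ = z := fun z => inv_eq_of_mul_eq_one_right (by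
      rw [← pow_two]
      exact Monoid.exponent_dvd_iff_forall_pow_eq_one.mp (dvd_of_eq IsKleinFour.exponent_two) z)
    have hc : Commute ((a : M) : G ⧸ R) ((b : M) : G ⧸ R) :=
      congrArg (fun z : E => ((z : M) : G ⧸ R))
        (by rw [← hinvE (a * b), mul_inv_rev, hinvE a, hinvE b] : a * b = b * a)
    obtain ⟨V, hV⟩ := Invol.exists_kleinFour_of_quotient R hR2 (ho a ha) (ho b hb) hc
      (fun he => hab (Subtype.ext (Subtype.ext he)))
    haveI := hV
    have hsq : ∀ x : V, (x : G) * x = 1 := fun x => by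
      have := Monoid.exponent_dvd_iff_forall_pow_eq_one.mp (dvd_of_eq IsKleinFour.exponent_two) x
      rw [pow_two] at this
      exact_mod_cast congrArg Subtype.val this
    have hcent : ∀ x : V, x ≠ 1 → ∀ u ∈ R, Commute u (x : G) → u = 1 := by
      intro x hx u hu hux
      by_contra hu1
      have hxo : orderOf (x : G) = 2 := orderOf_eq_prime (by rw [pow_two]; exact hsq x)
        (fun e => hx (Subtype.ext e))
      obtain ⟨q, hq, hqd⟩ := Nat.exists_prime_and_dvd (fun e => hu1 (orderOf_eq_one_iff.mp e))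
      obtain rfl := hR3 q hq (hqd.trans (Subgroup.orderOf_dvd_natCard R hu))
      have hodd : Nat.Coprime (orderOf u) 2 := by
        refine Nat.Coprime.symm ((Nat.prime_two.coprime_iff_not_dvd).mpr fun hd => ?_)
        exact hR2 (hd.trans (Subgroup.orderOf_dvd_natCard R hu))
      have hmul : orderOf (u * x) = orderOf u * 2 := by
        rw [hux.orderOf_mul_eq_mul_orderOf_of_coprime (by rwa [hxo]), hxo]
      obtain ⟨r, -, huniq⟩ := isPrimePow_iff_unique_prime_dvd.mp (h (u * x) fun e => by
        rw [e, orderOf_one] at hmul; omega)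
      rw [hmul] at huniq
      have := (huniq 2 ⟨Nat.prime_two, dvd_mul_left 2 _⟩).trans (huniq 3 ⟨Nat.prime_three, dvd_mul_of_dvd_left hqd 2⟩).symm
      norm_num at this
    have hinv : ∀ x : V, x ≠ 1 → ∀ u ∈ R, (x : G) * u * x = u⁻¹ := fun x hx =>
      SpecFive.inverts_of_fpf (hsq x) (fun u hu => by
        have := ‹R.Normal›.conj_mem u hu (x : G)
        rwa [inv_eq_of_mul_eq_one_right (hsq x)] at this) (hcent x hx)
    obtain ⟨u, hu, hu1⟩ := R.bot_or_exists_ne_one.resolve_left hR
    haveI : Nontrivial V := Finite.one_lt_card_iff_nontrivial.mp (by rw [IsKleinFour.card_four]; norm_num)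
    obtain ⟨x, hx⟩ := exists_ne (1 : V)
    obtain ⟨y, hy, hyx⟩ : ∃ y : V, y ≠ 1 ∧ y ≠ x := by
      by_contra hc
      push Not at hc
      have : Nat.card V ≤ 2 := by
        rw [← Set.ncard_univ]
        refine (Set.ncard_le_ncard (t := ({1, x} : Set V)) (fun z _ => ?_) (Set.toFinite _)).trans
          ((Set.ncard_insert_le _ _).trans (by rw [Set.ncard_singleton]))
        by_cases hz : z = 1
        · exact Or.inl hz
        · exact Or.inr (hc z hz)
      rw [IsKleinFour.card_four] at this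
      omega
    refine hu1 (hcent (y * x) (fun e => hyx ?_) u hu ?_)
    · have h1 : (y : G) * x = 1 := congrArg Subtype.val e
      exact Subtype.ext (mul_right_cancel (b := (x : G)) (h1.trans (hsq x).symm))
    · have h1 := SpecFive.commute_mul_of_inverts (hinv x hx u hu) (show (y : G) * u⁻¹ * y = u by
        have := congrArg (fun z : G => z⁻¹) (hinv y hy u hu)
        simpa [mul_assoc, inv_eq_of_mul_eq_one_right (hsq y)] using this) (hsq x) (hsq y)
      exact h1.symm
  obtain ⟨φ⟩ : Nonempty (K ≃+* F) :=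
    ⟨FiniteField.ringEquivOfCardEq (hK.trans hF.symm)⟩
  exact ⟨(EPPO.botEquiv hR).trans ((EPPO.topEquiv hi).trans (e.trans (Plane21.pslCongr φ)))⟩

/-- Let G be a finite group whose order has at least three distinct prime divisors, and suppose every nonidentity element of G has order a power of 2 or a prime other than 5. Then G is isomorphic to PSL₂(7) (here F is any field with 7 elements). In particular a finite group whose set of element orders is {1, 2, 3, 4, 7} is PSL₂(7). -/
theorem psl_two_seven {G : Type u} [Group G] [Finite G] (hL : Classified.{u})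
    {F : Type*} [Field F] [Fintype F] (hF : Fintype.card F = 7)
    (h3 : 3 ≤ (Nat.card G).primeFactors.card)
    (hord : ∀ g : G, g ≠ 1 → (∃ k : ℕ, orderOf g = 2 ^ k) ∨ ((orderOf g).Prime ∧ orderOf g ≠ 5)) :
    Nonempty (G ≃* Matrix.ProjectiveSpecialLinearGroup (Fin 2) F) := by
  classical
  have h : EPPO.PP G := by
    intro g hg
    rcases hord g hg with ⟨k, hk⟩ | ⟨hp, -⟩
    · rw [hk]
      rcases Nat.eq_zero_or_pos k with rfl | hk0
      · exact absurd (orderOf_eq_one_iff.mp (by simpa using hk)) hg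
      · exact ⟨2, k, Nat.prime_two.prime, hk0, rfl⟩
    · exact hp.prime.isPrimePow
  have h5 : ¬ 5 ∣ Nat.card G := by
    intro hd
    haveI : Fact (Nat.Prime 5) := ⟨by norm_num⟩
    obtain ⟨g, hg⟩ := exists_prime_orderOf_dvd_card' 5 hd
    rcases hord g (fun e => by rw [e, orderOf_one] at hg; norm_num at hg) with ⟨k, hk⟩ | ⟨-, h'⟩
    · have : 5 ∣ 2 := (show Nat.Prime 5 by norm_num).dvd_of_dvd_pow (dvd_of_eq (hg.symm.trans hk))
      norm_num at this
    · exact h' hg
  have h9 : ∀ g : G, ¬ 9 ∣ orderOf g := by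
    intro g hd
    rcases hord g (fun e => by rw [e, orderOf_one] at hd; norm_num at hd) with ⟨k, hk⟩ | ⟨hp, -⟩
    · have : 3 ∣ 2 := Nat.prime_three.dvd_of_dvd_pow ((dvd_mul_right 3 3).trans (hk ▸ hd))
      norm_num at this
    · have := (Nat.dvd_prime hp).mp ((dvd_mul_right 3 3).trans hd)
      rcases this with h' | h'
      · norm_num at h'
      · rw [← h'] at hd; norm_num at hd
  have hs := EPPO.not_solvable_of_primes h h3
  obtain ⟨R, hRn, hRs, hRmax⟩ := EPPO.exists_radical G
  haveI := hRn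
  obtain ⟨-, ⟨M, hMn, hMs, hMa, -⟩, -⟩ := Cfsg.Agent.S3992.result hs h R hRs hRmax
  haveI := hMn
  haveI := hMs
  have hno5 : ¬ 5 ∣ Nat.card M := fun hd => h5 <| by
    rw [EPPO.card_split R M]
    exact dvd_mul_of_dvd_left (dvd_mul_of_dvd_left hd _) _
  have hM9 : ∀ x : M, orderOf x ≠ 9 := by
    intro x hx
    obtain ⟨g, hg⟩ := QuotientGroup.mk'_surjective R (x : G ⧸ R)
    refine h9 g ?_
    have h1 := orderOf_map_dvd (QuotientGroup.mk' R) g
    rw [hg, Subgroup.orderOf_coe, hx] at h1
    exact h1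
  have hpM : EPPO.PP M := (EPPO.PP.quotient h R).subgroup M
  rcases hL M hMs hMa hpM with ⟨⟨e⟩⟩ | ⟨K, _, _, hK, ⟨e⟩⟩ | ⟨K, _, _, hK, ⟨e⟩⟩ |
    ⟨K, _, _, ⟨hK, ⟨e⟩⟩ | ⟨hK, ⟨e⟩⟩⟩
  · exact absurd (by rw [Nat.card_congr e.toEquiv, EPPO.card_alt_six]; norm_num) hno5
  · have hc := EPPO.card_psl_two (F := K) rfl
    rw [← Nat.card_congr e.toEquiv] at hc
    simp only [Finset.mem_insert, Finset.mem_singleton] at hK
    rcases hK with hK | hK | hK | hK <;> rw [hK] at hc <;> norm_num at hc
    · exact absurd ⟨12, by omega⟩ hno5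
    · exact psl_seven h hs R hRs M hMa hK e hF (by omega)
    · haveI : Fact (Nat.Prime 2) := ⟨Nat.prime_two⟩
      haveI : CharP K 2 := charP_of_card (n := 3) hK
      have : (9 : ℕ) ∈ Set.range (orderOf : Matrix.ProjectiveSpecialLinearGroup (Fin 2) K → ℕ) := by
        rw [Cfsg.Agent.S2475.result 2 (by omega), hK]
        exact Or.inr (Or.inr (by norm_num))
      obtain ⟨x, hx⟩ := this
      exact absurd ((orderOf_injective e.symm.toMonoidHom e.symm.injective x).trans hx) (hM9 _)
    · haveI : Fact (Nat.Prime 17) := ⟨by norm_num⟩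
      haveI : CharP K 17 := charP_of_card (n := 1) hK
      have : (9 : ℕ) ∈ Set.range (orderOf : Matrix.ProjectiveSpecialLinearGroup (Fin 2) K → ℕ) := by
        rw [Cfsg.Agent.S2475.result 17 (by omega), hK]
        exact Or.inr (Or.inr (by norm_num))
      obtain ⟨x, hx⟩ := this
      exact absurd ((orderOf_injective e.symm.toMonoidHom e.symm.injective x).trans hx) (hM9 _)
  · exact absurd (by rw [Nat.card_congr e.toEquiv, EPPO.card_psl_three_four hK]; norm_num) hno5
  · exact absurd (by rw [Nat.card_congr e.toEquiv, EPPO.card_sz_eight hK]; norm_num) hno5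
  · exact absurd (by rw [Nat.card_congr e.toEquiv, EPPO.card_sz_thirty_two hK]; norm_num) hno5


end Cfsg.Agent.EPPO
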